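import Groth.Agent.Lib.AffDom.PointDim

/-!
Curves in the sense "every closed point has a one-dimensional local ring": description through the
specialization order of points.
-/

universe u

open CategoryTheory AlgebraicGeometry TopologicalSpace

namespace GrothLib.CurvPt8

variable {X : Scheme.{u}}

theorem isMin_iff_isClosed {x : X} : IsMin x ↔ IsClosed ({x} : Set X) := by
  refine ⟨fun h => isClosed_of_closure_subset fun z hz => ?_, fun h z hz => ?_⟩
  · have hz' : z ≤ x := specializes_iff_mem_closure.2 hz
    exact (Specializes.antisymm hz' (h hz')).eq.symm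
  · have : z ∈ closure ({x} : Set X) := specializes_iff_mem_closure.1 hz
    rw [h.closure_eq] at this
    rw [Set.mem_singleton_iff.1 this]

theorem isMax_iff_closure_mem {x : X} :
    IsMax x ↔ closure ({x} : Set X) ∈ irreducibleComponents (X : Type u) := by
  refine ⟨fun h => ?_, fun h z hz => ?_⟩
  · refine ⟨isIrreducible_singleton.closure, fun T hT hsub => ?_⟩
    have hη := hT.isGenericPoint_genericPoint_closure
    have hxη : x ≤ hT.genericPoint :=
      hη.specializes (subset_closure (hsub (subset_closure rfl)))
    have hηx : hT.genericPoint ≤ x := h hxη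
    calc T ⊆ closure T := subset_closure
      _ = closure {hT.genericPoint} := hη.def.symm
      _ ⊆ closure {x} := closure_minimal
        (Set.singleton_subset_iff.2 (specializes_iff_mem_closure.1 hηx)) isClosed_closure
  · have hsub : closure ({x} : Set X) ⊆ closure ({z} : Set X) := closure_minimal
      (Set.singleton_subset_iff.2 (specializes_iff_mem_closure.1 hz)) isClosed_closure
    exact specializes_iff_mem_closure.2 (h.2 isIrreducible_singleton.closure hsub (subset_closure rfl))

/-- Every point lies below a maximal one. -/
theorem exists_isMax_ge (x : X) : ∃ η : X, x ≤ η ∧ IsMax η := by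
  obtain ⟨η, h, hmax⟩ := GrothLib.AffDom.exists_maximal_point x
  exact ⟨η, h, fun y hy => (hmax y hy).le⟩

/-- In a quasi-compact scheme every point lies above a closed one. -/
theorem exists_isClosed_le [CompactSpace X] (x : X) :
    ∃ c : X, c ≤ x ∧ IsClosed ({c} : Set X) := by
  obtain ⟨c, hc, hc'⟩ := IsClosed.exists_closed_singleton (isClosed_closure (s := ({x} : Set X)))
    ⟨x, subset_closure rfl⟩
  exact ⟨c, specializes_iff_mem_closure.2 hc, hc'⟩

/-- All closed points have one-dimensional local rings iff the non-maximal points are exactly the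
closed ones. -/
theorem dim_stalk_iff [CompactSpace X] :
    (∀ x : X, IsClosed ({x} : Set X) → ringKrullDim (X.presheaf.stalk x) = 1) ↔
      (∀ z : X, ¬ IsMax z → IsClosed ({z} : Set X)) ∧
        ∀ z : X, IsClosed ({z} : Set X) → ¬ IsMax z := by
  have key : ∀ x : X, ringKrullDim (X.presheaf.stalk x) = 1 ↔
      ¬ IsMax x ∧ ∀ y > x, IsMax y := fun x => by
    rw [ringKrullDim_stalk_eq_coheight]
    constructor
    · intro h
      have h1 : Order.coheight x = 1 := by exact_mod_cast h
      refine ⟨fun hm => ?_, fun y hy => ?_⟩
      · rw [Order.coheight_eq_zero.2 hm] at h1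
        exact zero_ne_one h1
      · have := Order.coheight_le_coe_iff.1 (show Order.coheight x ≤ (1 : ℕ) by simp [h1]) y hy
        exact Order.coheight_eq_zero.1 (by simpa using this)
    · rintro ⟨h, h'⟩
      have h1 : Order.coheight x ≤ (1 : ℕ) := Order.coheight_le_coe_iff.2 fun y hy => by
        simp [Order.coheight_eq_zero.2 (h' y hy)]
      have h2 : Order.coheight x = 1 :=
        le_antisymm (by simpa using h1) (ENat.one_le_iff_ne_zero.2 fun h0 =>
          h (Order.coheight_eq_zero.1 h0))
      rw [h2]; rfl
  constructor
  · intro h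
    refine ⟨fun z hz => ?_, fun z hz => ((key z).1 (h z hz)).1⟩
    obtain ⟨c, hcz, hc⟩ := exists_isClosed_le z
    rcases eq_or_ne c z with rfl | hne
    · exact hc
    · refine absurd (((key c).1 (h c hc)).2 z (lt_iff_le_not_ge.2 ⟨hcz, fun hzc => hne ?_⟩)) hz
      exact (Specializes.antisymm hcz hzc).eq.symm
  · rintro ⟨h, h'⟩ x hx
    refine (key x).2 ⟨h' x hx, fun y hy => ?_⟩
    by_contra hym
    exact hy.not_ge ((isMin_iff_isClosed.2 (h y hym)) hy.le)

/-- The closure of every maximal point is one-dimensional iff the non-maximal points are exactly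
the closed ones. -/
theorem ptDim_iff [CompactSpace X] :
    (∀ z : X, IsMax z → GrothLib.AffDom.ptDim z = 1) ↔
      (∀ z : X, ¬ IsMax z → IsClosed ({z} : Set X)) ∧
        ∀ z : X, IsClosed ({z} : Set X) → ¬ IsMax z := by
  have hq : ∀ η : X, QuasiSober (closure ({η} : Set X)) := fun η =>
    (isClosed_closure.isClosedEmbedding_subtypeVal).quasiSober
  have hk : ∀ η : X, GrothLib.AffDom.ptDim η =
      @Order.krullDim (closure ({η} : Set X)) (specializationPreorder _) := fun η => by
    have := hq η
    let _ := specializationPreorder (closure ({η} : Set X))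
    exact Order.krullDim_eq_of_orderIso irreducibleSetEquivPoints
  have hle : ∀ {η : X} (a b : closure ({η} : Set X)),
      @LE.le _ (specializationPreorder _).toLE a b ↔ (a : X) ≤ b := fun a b =>
    subtype_specializes_iff b a
  constructor
  · intro h
    refine ⟨fun z hz => ?_, fun z hz hm => ?_⟩
    · obtain ⟨η, hzη, hη⟩ := exists_isMax_ge z
      have h1 : @Order.krullDim (closure ({η} : Set X)) (specializationPreorder _) ≤ 1 := by
        rw [← hk, h η hη]
      let _ := specializationPreorder (closure ({η} : Set X))
      rcases Order.krullDim_le_one_iff.1 h1 ⟨z, specializes_iff_mem_closure.1 hzη⟩ with hmin | hmax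
      · refine isMin_iff_isClosed.1 fun w hw => ?_
        have hwη : w ≤ η := le_trans hw hzη
        exact (hle ⟨z, _⟩ ⟨w, specializes_iff_mem_closure.1 hwη⟩).1 (hmin ((hle _ _).2 hw))
      · refine absurd (fun w hw => ?_) hz
        have hηz : η ≤ z := (hle ⟨η, subset_closure rfl⟩ ⟨z, _⟩).1 (hmax ((hle _ _).2 hzη))
        exact le_trans (hη (le_trans hηz hw)) hηz
    · have h1 := h z hm
      rw [hk] at h1
      let _ := specializationPreorder (closure ({z} : Set X))
      have hs : ∀ a : closure ({z} : Set X), (a : X) = z := fun a => by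
        exact hz.closure_eq.subset a.2
      have h0 : Order.krullDim (closure ({z} : Set X)) ≤ 0 :=
        Order.krullDim_nonpos_iff_forall_isMax.2 fun a b _ => (hle _ _).2 ((hs b).trans (hs a).symm).le
      rw [h1] at h0
      exact absurd h0 (by norm_num)
  · rintro ⟨h, h'⟩ η hη
    rw [hk]
    let _ := specializationPreorder (closure ({η} : Set X))
    refine le_antisymm (Order.krullDim_le_one_iff.2 fun a => ?_) ?_
    · have haη : (a : X) ≤ η := specializes_iff_mem_closure.2 a.2
      rcases Classical.em (IsMax (a : X)) with hm | hm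
      · exact Or.inr fun b hb => (hle _ _).2
          (le_trans (specializes_iff_mem_closure.2 b.2 : (b : X) ≤ η) (hm haη))
      · exact Or.inl fun b hb => (hle _ _).2 (isMin_iff_isClosed.2 (h _ hm) ((hle _ _).1 hb))
    · refine le_of_not_gt fun hlt => ?_
      have h0 : Order.krullDim (closure ({η} : Set X)) ≤ 0 := by
        by_contra hh
        have := Order.krullDim_le_one_iff (α := closure ({η} : Set X))
        rcases hd : Order.krullDim (closure ({η} : Set X)) with _ | v
        · exact hh (hd ▸ bot_le)
        · rw [hd] at hlt hh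
          have hv : v < 1 := WithBot.coe_lt_coe.1 hlt
          exact hh (WithBot.coe_le_coe.2 (Order.lt_one_iff.1 hv).le)
      obtain ⟨c, hc, hc'⟩ := exists_isClosed_le η
      refine h' c hc' fun w hw => ?_
      have hηc : η ≤ c := (hle ⟨η, subset_closure rfl⟩ ⟨c, specializes_iff_mem_closure.1 hc⟩).1
        (Order.krullDim_nonpos_iff_forall_isMax.1 h0 _ ((hle _ _).2 hc))
      exact le_trans (hη (le_trans hηc hw)) hηc

end GrothLib.CurvPt8
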